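import Cfsg.Agent.Lib.CosetTable.Sound
import Cfsg.Agent.Lib.CosetTable.SuzG2.Data

/-! Generated certificate data for the coset table `SuzG2`. -/

namespace Cfsg.Agent.Lib.CosetTable.SuzG2

open Cfsg.Agent.Lib.CosetTable

set_option Elab.async false
set_option maxRecDepth 10000

theorem fix_ok_run1 : rangeAll (tab.fixOK cert.rels) 128 0 = true := by decide +kernel

theorem fix_ok_run2 : rangeAll (tab.fixOK cert.rels) 128 128 = true := by decide +kernel

theorem fix_ok_run3 : rangeAll (tab.fixOK cert.rels) 128 256 = true := by decide +kernel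

theorem fix_ok_run4 : rangeAll (tab.fixOK cert.rels) 32 384 = true := by decide +kernel

end Cfsg.Agent.Lib.CosetTable.SuzG2
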