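import Cfsg.Agent.Lib.CosetTable.SuzG2.RowsOK
import Cfsg.Agent.Lib.CosetTable.SuzG2.FixOK1

/-! Generated certificate data for the coset table `SuzG2`. -/

namespace Cfsg.Agent.Lib.CosetTable.SuzG2

open Cfsg.Agent.Lib.CosetTable

theorem fix_ok : Below (tab.fixOK cert.rels) 416 :=
  ((((Below.zero _).step (b := 128) fix_ok_run1 rfl).step (b := 256) fix_ok_run2 rfl).step (b := 384) fix_ok_run3 rfl).step (b := 416) fix_ok_run4 rfl

end Cfsg.Agent.Lib.CosetTable.SuzG2
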