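import Cfsg.Agent.Lib.CosetTable.Sound
import Cfsg.Agent.Lib.CosetTable.SuzG2.Data

/-! Generated certificate data for the coset table `SuzG2`. -/

namespace Cfsg.Agent.Lib.CosetTable.SuzG2

open Cfsg.Agent.Lib.CosetTable

set_option Elab.async false
set_option maxRecDepth 10000

theorem rows_ok_run1 : rangeAll (tab.rowOK cert 5179) 416 0 = true := by decide +kernel

theorem rows_ok : Below (tab.rowOK cert 5179) 416 :=
  (Below.zero _).step (b := 416) rows_ok_run1 rfl

theorem orb1_ok_run1 : rangeAll (orb1.posOK tab cert.subs) 100 0 = true := by decide +kernel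

theorem orb1_ok : Below (orb1.posOK tab cert.subs) 100 :=
  (Below.zero _).step (b := 100) orb1_ok_run1 rfl

theorem orb2_ok_run1 : rangeAll (orb2.posOK tab cert.subs) 315 0 = true := by decide +kernel

theorem orb2_ok : Below (orb2.posOK tab cert.subs) 315 :=
  (Below.zero _).step (b := 315) orb2_ok_run1 rfl

end Cfsg.Agent.Lib.CosetTable.SuzG2
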